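import Cfsg.Agent.H558.RV.Blocks
import Cfsg.Agent.OddOrderLocal.Thm34Weights

/-!
# Abelian normal subgroups are central (helper558)
-/

set_option autoImplicit false

namespace Cfsg.Agent.H558.RV

open Module Cfsg.Agent.H167.OP Cfsg.Agent.H170.HL Cfsg.Agent.H170.Fl Cfsg.Agent.OddOrderLocal.Thm34Weights

variable {F : Type*} [Field F] {V : Type*} [AddCommGroup V] [Module F V] {G : Type*} [Group G]

/-- scalars are central -/
theorem central_of_scalar {ρ : Representation F G V} (hinj : Function.Injective ρ) {a : G} {c : F}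
    (h : ∀ v, ρ a v = c • v) : a ∈ Subgroup.center G := by
  rw [Subgroup.mem_center_iff]
  intro g
  apply hinj
  ext v
  rw [map_mul, map_mul, End.mul_apply, End.mul_apply, h, h, map_smul]

/-- **abelian normal subgroups are central** -/
theorem ab_central [IsAlgClosed F] [Finite G] [FiniteDimensional F V] (ρ : Representation F G V)
    (hinj : Function.Injective ρ) (h2 : (2 : F) ≠ 0)
    (irr : ∀ M : Submodule F V, (∀ g : G, ∀ m ∈ M, ρ g m ∈ M) → M = ⊥ ∨ M = ⊤) (hd : 3 ≤ finrank F V)
    (h3 : ¬ 3 ∣ Nat.card G) (hk : (Nat.card G : F) ≠ 0) {S : Set G} (hS : ∀ s ∈ S, Q4 ρ s)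
    (hgen : Subgroup.closure S = ⊤) {A : Subgroup G} (hA : A.Normal) (hab : ∀ a ∈ A, ∀ b ∈ A, a * b = b * a) :
    A ≤ Subgroup.center G := by
  have hAk : (Nat.card A : F) ≠ 0 := by
    intro h0
    apply hk
    obtain ⟨e, he⟩ := Subgroup.card_subgroup_dvd_card A
    rw [he, Nat.cast_mul, h0, zero_mul]
  letI : MulAction G (A → F) := wtAction F A
  let ι := {χ : A → F // wt ρ A χ ≠ ⊥}
  letI act : MulAction G ι :=
    { smul := fun g χ => ⟨g • χ.1, wt_smul_ne_bot χ.2 g⟩
      one_smul := fun χ => Subtype.ext (one_smul G χ.1)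
      mul_smul := fun g h χ => Subtype.ext (mul_smul g h χ.1) }
  have hcoe : ∀ (g : G) (χ : ι), (g • χ).1 = g • χ.1 := fun _ _ => rfl
  have hB : Blk ρ (fun i : ι => wt ρ A i.1) :=
    { map := fun g i v hv => by
        rw [hcoe]
        exact smul_mem_wt hv g
      ne := fun i => i.2
      ind := (indep_wt ρ A hAk hab).comp Subtype.val_injective
      sup := by
        rw [eq_top_iff, ← iSup_wt ρ A hAk hab]
        refine iSup_le fun χ => ?_
        by_cases h : wt ρ A χ = ⊥
        · rw [h]; exact bot_le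
        · exact le_iSup (fun i : ι => wt ρ A i.1) ⟨χ, h⟩ }
  have hne : Nonempty ι := by
    by_contra hem
    rw [not_nonempty_iff] at hem
    have h1 := hB.sup
    rw [iSup_of_empty] at h1
    have h4 : finrank F V = 0 := by
      rw [← finrank_top F V, ← h1, finrank_bot]
    omega
  obtain ⟨i⟩ := hne
  have hsub : ∀ j : ι, j = i := by
    intro j
    by_contra hj
    have : Nontrivial ι := ⟨j, i, hj⟩
    exact no_blk h2 irr hd h3 hS hgen hB i
  have htop : wt ρ A i.1 = ⊤ := by
    rw [eq_top_iff, ← hB.sup]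
    refine iSup_le fun j => ?_
    rw [hsub j]
  intro a ha
  refine central_of_scalar hinj (c := i.1 ⟨a, ha⟩) fun v => ?_
  have h1 : v ∈ wt ρ A i.1 := by rw [htop]; trivial
  exact mem_wt.mp h1 ⟨a, ha⟩

end Cfsg.Agent.H558.RV
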