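import Cfsg.Agent.H558.RV.Five

/-!
# Quaternion groups acting on the symplectic space with sixteen elements (helper558)
-/

set_option autoImplicit false

namespace Cfsg.Agent.H558.RV

open MulAction

namespace FM

universe u

variable {Q : Type u} [Group Q] {M : Subgroup Q} {β : Q → Q → ZMod 2}

/-- an orbit of length five of the conjugation action -/
theorem exists_orbit [Finite Q] (h : FM M β) (h3 : ¬ 3 ∣ Nat.card Q) :
    ∃ (α : Type u) (_ : Finite α) (φ : Q →* Equiv.Perm α) (v : Q) (o : α), Nat.card α = 5 ∧ v ∈ M ∧ v ≠ 1 ∧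
      (∀ g, φ g o = o → g * v * g⁻¹ = v) ∧ ∃ c ∈ φ.range, orderOf c = 5 := by
  classical
  have hn := h.nrm
  let act : MulAction Q M := MulAction.compHom M (MulAut.conjNormal : Q →* MulAut M)
  have hact : ∀ (g : Q) (m : M), ((g • m : M) : Q) = g * m * g⁻¹ := fun g m => MulAut.conjNormal_apply g m
  have h2p : Fact (Nat.Prime 2) := ⟨Nat.prime_two⟩
  obtain ⟨P⟩ : Nonempty (Sylow 2 Q) := inferInstance
  have hmod := P.2.card_modEq_card_fixedPoints M
  rw [h.card] at hmod
  have hone : (1 : M) ∈ fixedPoints (P : Subgroup Q) M := by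
    intro g
    apply Subtype.ext
    show ((g : Q) • (1 : M) : M).1 = 1
    rw [hact]; simp
  obtain ⟨v, hv, hv1⟩ : ∃ v ∈ fixedPoints (P : Subgroup Q) M, v ≠ 1 := by
    by_contra hcon
    push Not at hcon
    have h4 : fixedPoints (P : Subgroup Q) M = {1} := by
      ext a
      constructor
      · intro ha; exact hcon a ha
      · intro ha; rw [Set.mem_singleton_iff] at ha; rw [ha]; exact hone
    have h5 : Nat.card (fixedPoints (P : Subgroup Q) M) = 1 := by
      rw [h4, Nat.card_coe_set_eq, Set.ncard_singleton]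
    rw [h5] at hmod
    exact absurd hmod (by decide)
  have hPv : (P : Subgroup Q) ≤ stabilizer Q v := fun g hg => hv ⟨g, hg⟩
  set s := (stabilizer Q v).index with hs
  have hso : s = (orbit Q v).ncard := MulAction.index_stabilizer Q v
  have hs2 : ¬ 2 ∣ s := fun hd => P.not_dvd_index (hd.trans (Subgroup.index_dvd_of_le hPv))
  have hs3 : ¬ 3 ∣ s := fun hd => h3 (hd.trans (Subgroup.index_dvd_card _))
  have hv1' : (v : Q) ≠ 1 := fun hh => hv1 (Subtype.ext hh)
  have hs1 : s ≠ 1 := by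
    intro h1
    obtain ⟨g, hg⟩ := h.not_fixed v.2 hv1'
    apply hg
    rw [← hact]
    have h4 : stabilizer Q v = ⊤ := Subgroup.index_eq_one.1 h1
    have h5 : g ∈ stabilizer Q v := by rw [h4]; trivial
    exact congrArg Subtype.val h5
  have hs15 : s ≤ 15 := by
    have h4 : orbit Q v ⊆ {(1 : M)}ᶜ := by
      rintro _ ⟨g, rfl⟩ h5
      rw [Set.mem_singleton_iff] at h5
      apply hv1'
      have h6 := congrArg Subtype.val h5
      change ((g • v : M) : Q) = 1 at h6
      rw [hact] at h6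
      have h7 : (v : Q) = g⁻¹ * (g * v * g⁻¹) * g := by group
      rw [h7, h6]; group
    have h5 := Set.ncard_le_ncard h4
    have h6 := Set.ncard_add_ncard_compl ({(1 : M)} : Set M)
    rw [Set.ncard_singleton, h.card] at h6
    omega
  have hs0 : s ≠ 0 := Subgroup.index_ne_zero_of_finite
  have hsp : s.Prime ∧ 5 ≤ s := by
    clear_value s
    have hsle : 1 < s := by omega
    interval_cases s <;> first | exact absurd (by decide) hs2 | exact absurd (by decide) hs3 | exact ⟨by norm_num, by norm_num⟩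
  obtain ⟨hsp, h5s⟩ := hsp
  -- a Sylow `s`-subgroup does not fix `v`
  have hmove : ∃ (g : Q) (n : ℕ), g ^ s ^ n = 1 ∧ g • v ≠ v := by
    have hsf : Fact s.Prime := ⟨hsp⟩
    obtain ⟨R⟩ : Nonempty (Sylow s Q) := inferInstance
    by_contra hcon
    push Not at hcon
    have h4 : (R : Subgroup Q) ≤ stabilizer Q v := by
      intro g hg
      obtain ⟨n, hn⟩ := R.2 ⟨g, hg⟩
      exact hcon g n (congrArg Subtype.val hn)
    exact R.not_dvd_index (Subgroup.index_dvd_of_le h4)
  obtain ⟨g, n, hgn, hgv⟩ := hmove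
  have hs5 : s = 5 := by
    by_contra hne
    have h7 : 7 ≤ s := by
      have : s ≠ 6 := by
        intro h6; rw [h6] at hsp; exact absurd hsp (by norm_num)
      omega
    apply hgv
    apply Subtype.ext
    rw [hact]
    exact h.cen_of_seven hsp h7 hgn v v.2
  refine ⟨orbit Q v, inferInstance, MulAction.toPermHom Q (orbit Q v), v, ⟨v, mem_orbit_self v⟩, ?_, v.2, hv1', ?_, ?_⟩
  · rw [Nat.card_coe_set_eq, ← hso, hs5]
  · intro g hg
    rw [← hact]
    exact congrArg (fun a : orbit Q v => ((a : M) : Q)) hg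
  · refine ⟨MulAction.toPermHom Q (orbit Q v) g, ⟨g, rfl⟩, ?_⟩
    set c := MulAction.toPermHom Q (orbit Q v) g with hc
    have hc1 : c ≠ 1 := by
      intro h1
      apply hgv
      have h4 : c ⟨v, mem_orbit_self v⟩ = ⟨v, mem_orbit_self v⟩ := by rw [h1]; rfl
      exact congrArg Subtype.val h4
    have hcn : c ^ 5 ^ n = 1 := by
      rw [hc, ← map_pow, ← hs5, hgn, map_one]
    obtain ⟨k, -, hk⟩ := (Nat.dvd_prime_pow Nat.prime_five).1 (orderOf_dvd_of_pow_eq_one hcn)
    have h120 : orderOf c ∣ 120 := by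
      have h4 := orderOf_dvd_natCard c
      have h5 : Nat.card (Equiv.Perm (orbit Q v)) = 120 := by
        rw [Nat.card_perm, Nat.card_coe_set_eq, ← hso, hs5]; rfl
      rwa [h5] at h4
    rw [hk] at h120 ⊢
    have hk1 : k ≠ 0 := by
      rintro rfl
      rw [pow_zero, orderOf_eq_one_iff] at hk
      exact hc1 hk
    have hk2 : k < 2 := by
      by_contra hlt
      push Not at hlt
      have h4 : 5 ^ 2 ∣ 120 := (pow_dvd_pow 5 hlt).trans h120
      exact absurd h4 (by norm_num)
    have : k = 1 := by omega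
    rw [this, pow_one]

/-- **quaternion elements** -/
theorem quat [Finite Q] (h : FM M β) (h3 : ¬ 3 ∣ Nat.card Q) {x y : Q} (hx : x ^ 4 = 1) (hy : y * y = x * x)
    (hxy : y * x * y⁻¹ = x⁻¹) :
    (∀ m ∈ M, x * m * x⁻¹ = m) ∨ (∀ m ∈ M, y * m * y⁻¹ = m) ∨ (∀ m ∈ M, (x * y) * m * (x * y)⁻¹ = m) := by
  obtain ⟨α, _, φ, v, o, hα, hvM, hv1, hφ, c, hcL, hc⟩ := h.exists_orbit h3
  -- the kernel centralises `M`
  have hker : ∀ w, φ w = 1 → ∀ m ∈ M, w * m * w⁻¹ = m := by
    let D : Subgroup Q :=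
      { carrier := {m | m ∈ M ∧ ∀ w, φ w = 1 → w * m * w⁻¹ = m}
        one_mem' := ⟨one_mem _, fun w _ => by simp⟩
        mul_mem' := fun {a b} ha hb => ⟨mul_mem ha.1 hb.1, fun w hw => by
          have : w * (a * b) * w⁻¹ = (w * a * w⁻¹) * (w * b * w⁻¹) := by group
          rw [this, ha.2 w hw, hb.2 w hw]⟩
        inv_mem' := fun {a} ha => ⟨inv_mem ha.1, fun w hw => by
          have : w * a⁻¹ * w⁻¹ = (w * a * w⁻¹)⁻¹ := by group
          rw [this, ha.2 w hw]⟩ }
    have hD : D.Normal := by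
      constructor
      rintro m ⟨hm, hm1⟩ g
      refine ⟨h.nrm.conj_mem m hm g, fun w hw => ?_⟩
      have h1 : φ (g⁻¹ * w * g) = 1 := by
        rw [map_mul, map_mul, hw, mul_one, ← map_mul, inv_mul_cancel, map_one]
      have h2 := hm1 _ h1
      calc w * (g * m * g⁻¹) * w⁻¹ = g * ((g⁻¹ * w * g) * m * (g⁻¹ * w * g)⁻¹) * g⁻¹ := by group
        _ = g * m * g⁻¹ := by rw [h2]
    have hvD : v ∈ D := ⟨hvM, fun w hw => hφ w (by rw [hw]; rfl)⟩
    rcases h.min D hD (fun m hm => hm.1) with h1 | h1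
    · exfalso
      apply hv1
      rw [h1] at hvD
      exact hvD
    · intro w hw m hm
      rw [← h1] at hm
      exact hm.2 w hw
  have hL3 : ¬ 3 ∣ Nat.card φ.range := fun hd => h3 (hd.trans (Subgroup.card_range_dvd φ))
  rcases quat_five hα hL3 hcL hc (a := φ x) (b := φ y) ⟨x, rfl⟩ ⟨y, rfl⟩ (by rw [← map_pow, hx, map_one])
    (by rw [← map_mul, hy, map_mul]) (by rw [← map_inv, ← map_inv, ← map_mul, ← map_mul, hxy]) with h1 | h1 | h1
  · exact Or.inl (hker x h1)
  · exact Or.inr (Or.inl (hker y h1))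
  · exact Or.inr (Or.inr (hker _ (by rw [map_mul]; exact h1)))

end FM

end Cfsg.Agent.H558.RV
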