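import Cfsg.Agent.H558.RV.Struct
import Cfsg.Agent.H558.RV.Quat

/-!
# A minimal normal subgroup of order four (helper558)
-/

set_option autoImplicit false

namespace Cfsg.Agent.H558.RV

open MulAction Cfsg.Agent.H574.Deg4
open Subgroup (center)
open scoped commutatorElement

variable {G : Type*} [Group G] {M : Subgroup (G ⧸ center G)}

theorem MS.not_fixed (h : MS M) {x : G ⧸ center G} (hx : x ∈ M) (hx1 : x ≠ 1) : ∃ g, g * x * g⁻¹ ≠ x := by
  by_contra hcon
  push Not at hcon
  have h2 : (Subgroup.zpowers x).Normal := by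
    constructor
    intro y hy g
    obtain ⟨i, rfl⟩ := hy
    refine ⟨i, ?_⟩
    show x ^ i = g * x ^ i * g⁻¹
    rw [← conj_zpow, hcon]
  rcases h.min _ h2 (by rw [Subgroup.zpowers_le]; exact hx) with h4 | h4
  · rw [Subgroup.zpowers_eq_bot] at h4
    exact hx1 h4
  · have h6 : Nat.card M = 2 := by
      rw [← h4, Nat.card_zpowers]
      exact orderOf_eq_prime (by rw [pow_two]; exact h.sq x hx) hx1
    rcases h.card with h7 | h7 <;> omega

theorem MS.card_ne_four [Finite G] (h : MS M) (h3 : ¬ 3 ∣ Nat.card G) : Nat.card M ≠ 4 := by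
  classical
  intro hc
  have hn := h.nrm
  let Q := G ⧸ center G
  let act : MulAction Q M := MulAction.compHom M (MulAut.conjNormal : Q →* MulAut M)
  have hact : ∀ (g : Q) (m : M), ((g • m : M) : Q) = g * m * g⁻¹ := fun g m => MulAut.conjNormal_apply g m
  obtain ⟨v, hv1⟩ : ∃ v : M, v ≠ 1 := by
    have : Nontrivial M := (Subgroup.nontrivial_iff_ne_bot M).2 h.ne
    exact exists_ne 1
  have key : ∀ v : M, v ≠ 1 → (orbit Q v).ncard ≠ 1 := by
    intro v hv1 h1
    have hv1' : (v : Q) ≠ 1 := fun hh => hv1 (Subtype.ext hh)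
    obtain ⟨g, hg⟩ := h.not_fixed v.2 hv1'
    apply hg
    have h4 : (g * (v : Q) * g⁻¹ : Q) = v := by
      rw [← hact]
      rw [← MulAction.index_stabilizer] at h1
      have h4 : stabilizer Q v = ⊤ := Subgroup.index_eq_one.1 h1
      have h5 : g ∈ stabilizer Q v := by rw [h4]; trivial
      exact congrArg Subtype.val h5
    exact h4
  have hsub : ∀ v : M, v ≠ 1 → orbit Q v ⊆ {(1 : M)}ᶜ := by
    rintro v hv1 _ ⟨g, rfl⟩ h5
    rw [Set.mem_singleton_iff] at h5
    apply hv1
    apply Subtype.ext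
    have h6 := congrArg Subtype.val h5
    change ((g • v : M) : Q) = 1 at h6
    rw [hact] at h6
    have h7 : (v : Q) = g⁻¹ * (g * v * g⁻¹) * g := by group
    rw [h7, h6]
    show g⁻¹ * 1 * g = 1
    group
  have h6 := Set.ncard_add_ncard_compl ({(1 : M)} : Set M)
  rw [Set.ncard_singleton, hc] at h6
  have hle := Set.ncard_le_ncard (hsub v hv1)
  have hn0 : (orbit Q v).ncard ≠ 0 := by
    rw [← MulAction.index_stabilizer]
    exact Subgroup.index_ne_zero_of_finite
  have hn3 : (orbit Q v).ncard ≠ 3 := by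
    intro h4
    apply h3
    have h5 : (orbit Q v).ncard ∣ Nat.card Q := by
      rw [← MulAction.index_stabilizer]
      exact Subgroup.index_dvd_card _
    rw [h4] at h5
    exact h5.trans (Subgroup.card_quotient_dvd_card _)
  have hn2 : (orbit Q v).ncard = 2 := by
    have := key v hv1
    omega
  -- the last element
  obtain ⟨w, hw, hwv⟩ : ∃ w ∈ ({(1 : M)}ᶜ : Set M), w ∉ orbit Q v := by
    by_contra hcon
    push Not at hcon
    have := Set.ncard_le_ncard (show ({(1 : M)}ᶜ : Set M) ⊆ orbit Q v from hcon)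
    omega
  have hw1 : w ≠ 1 := hw
  have hdisj : Disjoint (orbit Q v) (orbit Q w) := by
    rw [Set.disjoint_left]
    intro a ha hb
    apply hwv
    rw [← MulAction.orbit_eq_iff.2 ha, MulAction.orbit_eq_iff.2 hb]
    exact mem_orbit_self w
  have h7 : orbit Q v ∪ orbit Q w ⊆ {(1 : M)}ᶜ := Set.union_subset (hsub v hv1) (hsub w hw1)
  have h8 := Set.ncard_le_ncard h7
  rw [Set.ncard_union_eq hdisj, hn2] at h8
  have h9 := key w hw1
  have h10 : (orbit Q w).ncard ≠ 0 := by
    rw [← MulAction.index_stabilizer]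
    exact Subgroup.index_ne_zero_of_finite
  omega

end Cfsg.Agent.H558.RV
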