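import Cfsg.Agent.H558.RV.C0
import Cfsg.Agent.H558.Deg4Data.SData
import Cfsg.Agent.H170.Fl.Perm
import Cfsg.Agent.H556.OmHall

/-!
# Frames of quaternion groups (helper558)

`Frm ρ x y b ev` : commuting quaternion pairs `x i`, `y i`, each moving two dimensions; the `x i` are diagonal in the basis `b`
with separated joint eigenvalues; all permutations of the involutions `x i ^ 2` are induced by elements of `G`.

A subgroup `H` of odd index, of order prime to three and to the characteristic, containing the frame: `H` permutes the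
involutions `x i ^ 2` and induces a 2-group on them.
-/

set_option autoImplicit false

namespace Cfsg.Agent.H558.RV

open Module Cfsg.Agent.H167.OP Cfsg.Agent.H170.HL Cfsg.Agent.H170.Fl

variable {F : Type*} [Field F] {V : Type*} [AddCommGroup V] [Module F V] {G : Type*} [Group G]
  {ρ : Representation F G V}

theorem Q4.conj [FiniteDimensional F V] {x : G} (h : Q4 ρ x) (g : G) : Q4 ρ (g * x * g⁻¹) where
  four := by rw [conj_pow, h.four, mul_one, mul_inv_cancel]
  neg v hv := by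
    have h1 : ρ x (ρ g⁻¹ v) = -ρ g⁻¹ v := by
      have h2 := congrArg (ρ g⁻¹) hv
      rw [← mul_ap, map_neg] at h2
      rw [← h2, ← mul_ap]
      congr 2
      group
    have h3 := h.neg _ h1
    have h4 := ap_inv ρ g v
    rw [← h4, h3, map_zero]
  rk := by
    have h1 : g * x * g⁻¹ * (g * x * g⁻¹) = g * (x * x) * g⁻¹ := by group
    rw [h1]
    exact (rk_conj_le ρ g _).trans h.rk

theorem QQ.conj [FiniteDimensional F V] {x y : G} (h : QQ ρ x y) (g : G) : QQ ρ (g * x * g⁻¹) (g * y * g⁻¹) where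
  hx := h.hx.conj g
  hy := h.hy.conj g
  sq := by
    have h1 : g * y * g⁻¹ * (g * y * g⁻¹) = g * (y * y) * g⁻¹ := by group
    have h2 : g * x * g⁻¹ * (g * x * g⁻¹) = g * (x * x) * g⁻¹ := by group
    rw [h1, h2, h.sq]
  inv := by
    have h1 : g * y * g⁻¹ * (g * x * g⁻¹) * (g * y * g⁻¹)⁻¹ = g * (y * x * y⁻¹) * g⁻¹ := by group
    rw [h1, h.inv]
    group
  ne h1 := by
    apply h.ne
    have h2 : x = g⁻¹ * (g * x * g⁻¹) * g := by group
    rw [h2, h1]; group

theorem Q4.sub {J : Subgroup G} {x : G} (h : Q4 ρ x) (hx : x ∈ J) :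
    Q4 (ρ.comp J.subtype : Representation F J V) ⟨x, hx⟩ where
  four := Subtype.ext h.four
  neg v hv := h.neg v hv
  rk := h.rk

theorem QQ.sub {J : Subgroup G} {x y : G} (h : QQ ρ x y) (hx : x ∈ J) (hy : y ∈ J) :
    QQ (ρ.comp J.subtype : Representation F J V) ⟨x, hx⟩ ⟨y, hy⟩ where
  hx := h.hx.sub hx
  hy := h.hy.sub hy
  sq := Subtype.ext h.sq
  inv := Subtype.ext h.inv
  ne h1 := h.ne (congrArg Subtype.val h1)

variable {m : ℕ} {κ : Type*}

/-- see the header -/
structure Frm (ρ : Representation F G V) (x y : Fin m → G) (b : Basis κ F V) (ev : Fin m → κ → F) : Prop where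
  qq : ∀ i, QQ ρ (x i) (y i)
  cm : ∀ i j, i ≠ j → Commute (x i) (x j) ∧ Commute (x i) (y j) ∧ Commute (y i) (y j)
  eig : ∀ i j, ρ (x i) (b j) = ev i j • b j
  sep : ∀ j j', j ≠ j' → ∃ i, ev i j ≠ ev i j'
  sw : ∀ i j, i ≠ j → ∃ w : G, ∀ k, w * (x k * x k) * w⁻¹ = x (Equiv.swap i j k) * x (Equiv.swap i j k)

variable {x y : Fin m → G} {b : Basis κ F V} {ev : Fin m → κ → F}

/-- the equivalence given by a group element -/
def eqv (ρ : Representation F G V) (g : G) : V ≃ₗ[F] V :=
  LinearEquiv.ofLinearMap (ρ g) (ρ g⁻¹) (by ext v; exact ap_inv ρ g v) (by ext v; exact inv_ap ρ g v)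

namespace Frm

theorem conj [FiniteDimensional F V] (h : Frm ρ x y b ev) (g : G) :
    Frm ρ (fun i => g * x i * g⁻¹) (fun i => g * y i * g⁻¹) (b.map (eqv ρ g)) ev where
  qq i := (h.qq i).conj g
  cm i j hij := by
    have hc : ∀ {a c : G}, Commute a c → Commute (g * a * g⁻¹) (g * c * g⁻¹) := by
      intro a c hac
      have h1 : g * a * g⁻¹ * (g * c * g⁻¹) = g * (a * c) * g⁻¹ := by group
      have h2 : g * c * g⁻¹ * (g * a * g⁻¹) = g * (c * a) * g⁻¹ := by group
      show g * a * g⁻¹ * (g * c * g⁻¹) = g * c * g⁻¹ * (g * a * g⁻¹)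
      rw [h1, h2, hac.eq]
    obtain ⟨h1, h2, h3⟩ := h.cm i j hij
    exact ⟨hc h1, hc h2, hc h3⟩
  eig i j := by
    rw [Basis.map_apply]
    show ρ (g * x i * g⁻¹) (ρ g (b j)) = ev i j • ρ g (b j)
    rw [mul_ap, mul_ap, inv_ap, h.eig, map_smul]
  sep := h.sep
  sw i j hij := by
    obtain ⟨w, hw⟩ := h.sw i j hij
    refine ⟨g * w * g⁻¹, fun k => ?_⟩
    have h1 : g * w * g⁻¹ * (g * x k * g⁻¹ * (g * x k * g⁻¹)) * (g * w * g⁻¹)⁻¹ =
        g * (w * (x k * x k) * w⁻¹) * g⁻¹ := by group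
    rw [h1, hw]
    group

/-- a vector with the joint eigenvalues of `b j` -/
theorem eq_smul [Fintype κ] (h : Frm ρ x y b ev) {v : V} {j : κ} (hv : ∀ i, ρ (x i) v = ev i j • v) :
    ∃ c : F, v = c • b j := by
  classical
  refine ⟨b.repr v j, ?_⟩
  apply b.repr.injective
  ext l
  rw [map_smul, Finsupp.smul_apply, Basis.repr_self, Finsupp.single_apply]
  by_cases hl : j = l
  · subst hl; simp
  · rw [if_neg hl, smul_zero]
    obtain ⟨i, hi⟩ := h.sep j l hl
    have h2 : ∀ u : V, b.repr (ρ (x i) u) l = ev i l * b.repr u l := by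
      intro u
      conv_lhs => rw [← b.sum_repr u]
      have h3 : ρ (x i) (∑ l, b.repr u l • b l) = ∑ l, b.repr u l • (ev i l • b l) := by
        rw [map_sum]
        exact Finset.sum_congr rfl fun l _ => by rw [map_smul, h.eig]
      rw [h3, map_sum, Finsupp.finsetSum_apply, Finset.sum_eq_single l]
      · rw [map_smul, map_smul, Finsupp.smul_apply, Finsupp.smul_apply, Basis.repr_self, Finsupp.single_eq_same,
          smul_eq_mul, smul_eq_mul, mul_one, mul_comm]
      · intro l' _ hl'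
        rw [map_smul, map_smul, Finsupp.smul_apply, Finsupp.smul_apply, Basis.repr_self,
          Finsupp.single_eq_of_ne (by simpa using Ne.symm hl'), smul_zero, smul_zero]
      · intro h'; exact absurd (Finset.mem_univ _) h'
    have h4 := h2 v
    rw [hv, map_smul, Finsupp.smul_apply, smul_eq_mul] at h4
    have h5 : (ev i j - ev i l) * b.repr v l = 0 := by rw [sub_mul, h4, sub_self]
    exact (mul_eq_zero.1 h5).resolve_left (sub_ne_zero.2 hi)

/-- what commutes with all `x i` is diagonal -/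
theorem diag [Fintype κ] (h : Frm ρ x y b ev) {s : G} (hs : ∀ i, s * x i = x i * s) (j : κ) :
    ∃ c : F, ρ s (b j) = c • b j := by
  refine h.eq_smul fun i => ?_
  rw [← mul_ap, ← hs i, mul_ap, h.eig, map_smul]

/-- quaternion pairs do not commute with all `x i` -/
theorem no_comm [Fintype κ] (h : Frm ρ x y b ev) (hinj : Function.Injective ρ) {s t : G} (hst : QQ ρ s t)
    (hs : ∀ i, s * x i = x i * s) (ht : ∀ i, t * x i = x i * t) : False := by
  have hcomm : s * t = t * s := by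
    apply hinj
    apply b.ext
    intro j
    obtain ⟨c, hc⟩ := h.diag hs j
    obtain ⟨d, hd⟩ := h.diag ht j
    rw [mul_ap, mul_ap, hc, hd, map_smul, map_smul, hc, hd, smul_smul, smul_smul, mul_comm]
  apply hst.sq_ne hinj
  have h1 := hst.inv
  rw [← hcomm, mul_inv_cancel_right] at h1
  nth_rewrite 1 [h1]
  rw [inv_mul_cancel]

theorem comm' (h : Frm ρ x y b ev) {i j : Fin m} (hij : i ≠ j) :
    x j * x i = x i * x j ∧ x j * y i = y i * x j := ⟨((h.cm i j hij).1.eq).symm, (h.cm j i hij.symm).2.1.eq⟩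

/-- the involutions are different -/
theorem z_inj [FiniteDimensional F V] (h : Frm ρ x y b ev) (hinj : Function.Injective ρ) (h2 : (2 : F) ≠ 0) {i j : Fin m}
    (hij : x i * x i = x j * x j) : i = j := by
  by_contra hne
  have hE : E ρ (x i) = E ρ (x j) := by unfold E; rw [hij]
  -- some basis vector lies in the support
  obtain ⟨l, hl⟩ : ∃ l, b l ∈ E ρ (x i) := by
    by_contra hcon
    push Not at hcon
    apply (h.qq i).sq_ne hinj
    apply hinj
    apply b.ext
    intro l
    rw [map_one, End.one_apply]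
    have h4 : ρ (x i * x i * (x i * x i)) (b l) = b l := by
      have : x i * x i * (x i * x i) = 1 := by
        rw [← (h.qq i).hx.four]; simp only [pow_succ, pow_zero, one_mul, mul_assoc]
      rw [this, map_one, End.one_apply]
    have h5 : ρ (x i * x i) (b l) = (ev i l * ev i l) • b l := by
      rw [mul_ap, h.eig, map_smul, h.eig, smul_smul]
    rw [mul_ap, h5, map_smul, h5, smul_smul] at h4
    have h6 : (ev i l * ev i l * (ev i l * ev i l) - 1) • b l = 0 := by rw [sub_smul, h4, one_smul, sub_self]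
    have h7 : ev i l * ev i l * (ev i l * ev i l) = 1 := sub_eq_zero.1 ((smul_eq_zero.1 h6).resolve_right (b.ne_zero l))
    rcases mul_self_eq_one_iff.1 h7 with h8 | h8
    · rw [h5, h8, one_smul]
    · exfalso
      apply hcon l
      rw [(h.qq i).hx.mem_E h2, h5, h8, neg_smul, one_smul]
  -- the eigenspace of `x j`
  let M : Submodule F V := LinearMap.ker (ρ (x j) - ev j l • (1 : End F V))
  have hM : ∀ v, v ∈ M ↔ ρ (x j) v = ev j l • v := by
    intro v
    rw [LinearMap.mem_ker, LinearMap.sub_apply, LinearMap.smul_apply, End.one_apply, sub_eq_zero]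
  obtain ⟨c1, c2⟩ := h.comm' hne
  have hle : E ρ (x i) ≤ M := by
    rcases (h.qq i).irr_E hinj h2 (M := M) (fun v hv => by
      rw [hM] at hv ⊢
      rw [← mul_ap, c1, mul_ap, hv, map_smul]) (fun v hv => by
      rw [hM] at hv ⊢
      rw [← mul_ap, c2, mul_ap, hv, map_smul]) with h3 | h3
    · exfalso
      have h4 : b l ∈ M ⊓ E ρ (x i) := ⟨(hM _).2 (h.eig j l), hl⟩
      rw [h3, Submodule.mem_bot] at h4
      exact b.ne_zero l h4
    · exact h3
  -- contradiction with `y j`
  set c := ev j l with hc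
  have hlj : b l ∈ E ρ (x j) := by rw [← hE]; exact hl
  have e1 : ρ (x j) (b l) = c • b l := h.eig j l
  have e2 : c * c = -1 := by
    have h4 := ((h.qq j).hx.mem_E h2).1 hlj
    rw [mul_ap, e1, map_smul, e1, smul_smul] at h4
    have h5 : (c * c + 1) • b l = 0 := by rw [add_smul, h4, one_smul, neg_add_cancel]
    exact eq_neg_of_add_eq_zero_left ((smul_eq_zero.1 h5).resolve_right (b.ne_zero l))
  have hyl : ρ (y j) (b l) ∈ E ρ (x j) := ((h.qq j).inv_E h2).2 _ hlj
  have e3 : ρ (x j) (ρ (y j) (b l)) = c • ρ (y j) (b l) := (hM _).1 (hle (by rw [hE]; exact hyl))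
  have h6 : x j * (y j * x j) = y j := by rw [(h.qq j).yxy, mul_inv_cancel_left]
  have h7 : ρ (x j * (y j * x j)) (b l) = ρ (y j) (b l) := by rw [h6]
  rw [mul_ap, mul_ap, e1, map_smul, map_smul, e3, smul_smul, e2, neg_smul, one_smul] at h7
  have h8 : (2 : F) • ρ (y j) (b l) = 0 := by
    rw [two_smul]
    nth_rewrite 1 [← h7]
    exact neg_add_cancel _
  rcases smul_eq_zero.1 h8 with h9 | h9
  · exact h2 h9
  · apply b.ne_zero l
    have := inv_ap ρ (y j) (b l)
    rw [← this, h9, map_zero]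

end Frm

/-- the elements permuting the involutions -/
def NZ (x : Fin m → G) : Subgroup (G × Equiv.Perm (Fin m)) where
  carrier := {p | ∀ k, p.1 * (x k * x k) * p.1⁻¹ = x (p.2 k) * x (p.2 k)}
  one_mem' k := by simp
  mul_mem' {p q} hp hq k := by
    have h1 : (p * q).1 * (x k * x k) * (p * q).1⁻¹ = p.1 * (q.1 * (x k * x k) * q.1⁻¹) * p.1⁻¹ := by
      rw [Prod.fst_mul]; group
    show (p * q).1 * (x k * x k) * (p * q).1⁻¹ = _
    rw [h1, hq k, hp]
    rfl
  inv_mem' {p} hp k := by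
    have h1 := hp (p.2⁻¹ k)
    rw [show p.2 (p.2⁻¹ k) = k from p.2.apply_symm_apply k] at h1
    show p.1⁻¹ * (x k * x k) * p.1⁻¹⁻¹ = x (p.2⁻¹ k) * x (p.2⁻¹ k)
    rw [← h1]; group

theorem mem_NZ {x : Fin m → G} {g : G} {τ : Equiv.Perm (Fin m)} :
    (g, τ) ∈ NZ x ↔ ∀ k, g * (x k * x k) * g⁻¹ = x (τ k) * x (τ k) := Iff.rfl

theorem Frm.exists_NZ (h : Frm ρ x y b ev) (τ : Equiv.Perm (Fin m)) : ∃ g, (g, τ) ∈ NZ x := by
  induction τ using Equiv.Perm.swap_induction_on with
  | one => exact ⟨1, (NZ x).one_mem⟩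
  | swap_mul f i j hij ih =>
    obtain ⟨g, hg⟩ := ih
    obtain ⟨w, hw⟩ := h.sw i j hij
    exact ⟨w * g, (NZ x).mul_mem (x := (w, Equiv.swap i j)) (y := (g, f)) hw hg⟩

/-- the hypotheses on the subgroup `H` -/
structure HF (ρ : Representation F G V) (H : Subgroup G) : Prop where
  inj : Function.Injective ρ
  two : (2 : F) ≠ 0
  idx : ¬ 2 ∣ H.index
  three : ¬ 3 ∣ Nat.card H
  card : (Nat.card H : F) ≠ 0

namespace HF

variable {H : Subgroup G}

/-- conjugating a frame into `H` -/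
theorem exists_frame [Finite G] [FiniteDimensional F V] (h : HF ρ H) (hf : Frm ρ x y b ev) :
    ∃ (x' y' : Fin m → G) (b' : Basis κ F V), Frm ρ x' y' b' ev ∧ ∀ i, x' i ∈ H ∧ y' i ∈ H := by
  have hP := Cfsg.Agent.H558.Deg4Data.isPGroup_closure (x := x) (y := y) (fun i => (hf.qq i).hx.four)
    (fun i => (hf.qq i).sq) (fun i => (hf.qq i).inv) hf.cm
  obtain ⟨g, hg⟩ := exists_conj_le h.idx hP
  refine ⟨_, _, _, hf.conj g, fun i => ⟨?_, ?_⟩⟩
  · exact hg _ (Subgroup.subset_closure (Or.inl ⟨i, rfl⟩))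
  · exact hg _ (Subgroup.subset_closure (Or.inr ⟨i, rfl⟩))

/-- `H` permutes the involutions -/
theorem exists_image [IsAlgClosed F] [Finite G] [FiniteDimensional F V] [Fintype κ] (h : HF ρ H) (hf : Frm ρ x y b ev)
    (hH : ∀ i, x i ∈ H ∧ y i ∈ H) {g : G} (hg : g ∈ H) (k : Fin m) : ∃ l, g * (x k * x k) * g⁻¹ = x l * x l := by
  by_contra hcon
  push Not at hcon
  have hx' : g * x k * g⁻¹ ∈ H := H.mul_mem (H.mul_mem hg (hH k).1) (H.inv_mem hg)
  have hy' : g * y k * g⁻¹ ∈ H := H.mul_mem (H.mul_mem hg (hH k).2) (H.inv_mem hg)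
  have hq : QQ ρ (g * x k * g⁻¹) (g * y k * g⁻¹) := (hf.qq k).conj g
  have hinj : Function.Injective (ρ.comp H.subtype : Representation F H V) := h.inj.comp H.subtype_injective
  have key : ∀ l, (g * x k * g⁻¹) * x l = x l * (g * x k * g⁻¹) ∧ (g * y k * g⁻¹) * x l = x l * (g * y k * g⁻¹) := by
    intro l
    rcases c0 hinj h.two h.three h.card (hq.sub hx' hy') ((hf.qq l).sub (hH l).1 (hH l).2) with h1 | h1
    · exfalso
      apply hcon l
      have h3 := congrArg Subtype.val h1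
      have h4 : g * x k * g⁻¹ * (g * x k * g⁻¹) = g * (x k * x k) * g⁻¹ := by group
      rw [← h4]
      exact h3
    · exact ⟨congrArg Subtype.val h1.1, congrArg Subtype.val h1.2.2.1⟩
  exact hf.no_comm h.inj hq (fun l => (key l).1) fun l => (key l).2

theorem exists_perm [IsAlgClosed F] [Finite G] [FiniteDimensional F V] [Fintype κ] (h : HF ρ H) (hf : Frm ρ x y b ev)
    (hH : ∀ i, x i ∈ H ∧ y i ∈ H) {g : G} (hg : g ∈ H) : ∃ τ : Equiv.Perm (Fin m), (g, τ) ∈ NZ x := by
  choose τ hτ using fun k => h.exists_image hf hH hg k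
  have hinj : Function.Injective τ := by
    intro k l hkl
    apply hf.z_inj h.inj h.two
    have h1 : g * (x k * x k) * g⁻¹ = g * (x l * x l) * g⁻¹ := by rw [hτ, hτ, hkl]
    exact mul_left_cancel (mul_right_cancel h1)
  exact ⟨Equiv.ofBijective τ (Finite.injective_iff_bijective.mp hinj), hτ⟩

/-- the permutation group induced by `H` is a 2-group -/
theorem perm_pow [IsAlgClosed F] [Finite G] [FiniteDimensional F V] [Fintype κ] (h : HF ρ H) (hf : Frm ρ x y b ev)
    (hH : ∀ i, x i ∈ H ∧ y i ∈ H) {g : G} {τ : Equiv.Perm (Fin m)} (hg : g ∈ H) (hτ : (g, τ) ∈ NZ x) :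
    ∃ n, τ ^ 2 ^ n = 1 := by
  let π1 : NZ x →* G := (MonoidHom.fst _ _).comp (NZ x).subtype
  let π2 : NZ x →* Equiv.Perm (Fin m) := (MonoidHom.snd _ _).comp (NZ x).subtype
  have h1 : Function.Injective π1 := by
    rw [injective_iff_map_eq_one]
    rintro ⟨⟨g, τ⟩, hp⟩ hg
    have hg' : g = 1 := hg
    subst hg'
    have : τ = 1 := by
      ext k
      have h3 := hp k
      have h4 : x k * x k = x (τ k) * x (τ k) := by simpa using h3
      exact congrArg Fin.val (hf.z_inj h.inj h.two h4).symm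
    subst this
    rfl
  have h2 : Function.Surjective π2 := by
    intro τ
    obtain ⟨g, hg⟩ := hf.exists_NZ τ
    exact ⟨⟨(g, τ), hg⟩, rfl⟩
  have hle : H ≤ π1.range := by
    intro g hg
    obtain ⟨τ, hτ⟩ := h.exists_perm hf hH hg
    exact ⟨⟨(g, τ), hτ⟩, rfl⟩
  have h4 : IsPGroup 2 ((H.comap π1).map π2) := by
    refine perm_two m (Fin m) (by simp) _ ?_ ?_
    · intro hd
      refine h.idx (hd.trans (((H.comap π1).index_map_dvd h2).trans ?_))
      rw [Subgroup.index_comap, ← Subgroup.relIndex_mul_index hle]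
      exact Dvd.intro _ rfl
    · intro hd
      refine h.three (hd.trans ((Subgroup.card_map_dvd _ _).trans ?_))
      have h3 : Nat.card (H.comap π1) = Nat.card ((H.comap π1).map π1) := (Subgroup.card_map_of_injective h1).symm
      rw [h3]
      exact Subgroup.card_dvd_of_le (Subgroup.map_comap_le _ _)
  have h5 : τ ∈ (H.comap π1).map π2 := ⟨⟨(g, τ), hτ⟩, hg, rfl⟩
  obtain ⟨n, hn⟩ := h4 ⟨τ, h5⟩
  exact ⟨n, by simpa using congrArg Subtype.val hn⟩

/-- odd elements centralise the involutions -/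
theorem fix [IsAlgClosed F] [Finite G] [FiniteDimensional F V] [Fintype κ] (h : HF ρ H) (hf : Frm ρ x y b ev)
    (hH : ∀ i, x i ∈ H ∧ y i ∈ H) {g : G} (hg : g ∈ H) (hgo : Odd (orderOf g)) (k : Fin m) :
    g * (x k * x k) * g⁻¹ = x k * x k := by
  obtain ⟨τ, hτ⟩ := h.exists_perm hf hH hg
  have h1 : (g ^ orderOf g, τ ^ orderOf g) ∈ NZ x := (NZ x).pow_mem hτ (orderOf g)
  have h3 : τ ^ orderOf g = 1 := by
    ext k
    have h4 := h1 k
    have h5 : x k * x k = x ((τ ^ orderOf g) k) * x ((τ ^ orderOf g) k) := by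
      have h6 : g ^ orderOf g * (x k * x k) * (g ^ orderOf g)⁻¹ = x ((τ ^ orderOf g) k) * x ((τ ^ orderOf g) k) := h4
      rw [← h6, pow_orderOf_eq_one]
      group
    exact congrArg Fin.val (hf.z_inj h.inj h.two h5).symm
  obtain ⟨a, ha⟩ := h.perm_pow hf hH hg hτ
  have h5 : Nat.Coprime (orderOf g) (2 ^ a) := Nat.Coprime.pow_right _ (Nat.coprime_two_right.2 hgo)
  have h6 : τ = 1 := by
    rw [← orderOf_eq_one_iff]
    exact Nat.eq_one_of_dvd_coprimes h5 (orderOf_dvd_of_pow_eq_one h3) (orderOf_dvd_of_pow_eq_one ha)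
  have h7 := hτ k
  rw [h6] at h7
  exact h7

end HF

end Cfsg.Agent.H558.RV
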